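import Cfsg.Prelude.Def_Blocks
import Cfsg.Agent.S0840
import Cfsg.Agent.Lib.Characters.Indicator
import Cfsg.Agent.Lib.DegreeBounds.Basic
import Cfsg.Agent.Lib.Glauberman.Cyclic

/-!
# Groups with odd centralizers of p-elements

Either a `p`-element is inverted by an involution, and then the Sylow `p`-subgroups are abelian and
inverted by involutions, or a class multiplication count modulo `p` gives a character of defect
zero.
-/

set_option autoImplicit false
set_option linter.unusedSectionVars false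

namespace Cfsg.Agent.Lib.OddCentP.Basic

open Subgroup
open Cfsg.Agent.Lib.Characters
open Cfsg.Agent.Lib.Characters.Basic Cfsg.Agent.Lib.Characters.Complete
open Cfsg.Agent.Lib.DegreeBounds.Basic
open Cfsg.Agent.Lib.Induced.Basic (natCard_ne_zero)
open scoped ComplexConjugate Pointwise

universe u

variable {G : Type u} [Group G] [Finite G] {p : ℕ}

/-- The hypothesis: centralizers of nontrivial `p`-elements have odd order. -/
def OddC (p : ℕ) (G : Type u) [Group G] : Prop :=
  ∀ g : G, g ≠ 1 → (∃ k : ℕ, orderOf g = p ^ k) →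
    Odd (Nat.card ↥(Subgroup.centralizer ({g} : Set G)))

/-- Some nontrivial `p`-element is inverted by an involution. -/
def Inverted (p : ℕ) (G : Type u) [Group G] : Prop :=
  ∃ x s : G, x ≠ 1 ∧ (∃ k : ℕ, orderOf x = p ^ k) ∧ orderOf s = 2 ∧ s * x * s⁻¹ = x⁻¹

theorem not_commute (hC : OddC p G) {s x : G} (hs : orderOf s = 2) (hx : x ≠ 1)
    (hk : ∃ k : ℕ, orderOf x = p ^ k) : ¬ Commute s x := by
  intro h
  have hmem : s ∈ centralizer ({x} : Set G) := mem_centralizer_singleton_iff.mpr h.eq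
  have h2 : 2 ∣ Nat.card (centralizer ({x} : Set G)) := by
    rw [← hs, ← orderOf_mk s hmem]
    exact orderOf_dvd_natCard _
  exact (Nat.not_even_iff_odd.mpr (hC x hx hk)) (even_iff_two_dvd.mpr h2)

theorem orderOf_conj' (a x : G) : orderOf (a * x * a⁻¹) = orderOf x :=
  MulEquiv.orderOf_eq (MulAut.conj a) x

theorem inv_of_involution {s : G} (hs : orderOf s = 2) : s⁻¹ = s :=
  inv_eq_of_mul_eq_one_right (by rw [← pow_two, ← hs, pow_orderOf_eq_one])

theorem not_dvd_centralizer_involution [hp : Fact p.Prime] (hC : OddC p G) {s : G}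
    (hs : orderOf s = 2) : ¬ p ∣ Nat.card (centralizer ({s} : Set G)) := by
  intro h
  obtain ⟨⟨x, hxm⟩, hx⟩ := exists_prime_orderOf_dvd_card' p h
  rw [orderOf_mk] at hx
  exact not_commute hC hs (fun e => hp.out.one_lt.ne' (by rw [← hx, e, orderOf_one]))
    ⟨1, by rw [hx, pow_one]⟩ (mem_centralizer_singleton_iff.mp hxm).symm

theorem exists_order_pow_of_mem [Fact p.Prime] {Q : Subgroup G} (hQ : IsPGroup p Q) {q : G}
    (hq : q ∈ Q) : ∃ k : ℕ, orderOf q = p ^ k := by
  obtain ⟨k, hk⟩ := (IsPGroup.iff_orderOf.mp hQ) ⟨q, hq⟩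
  exact ⟨k, by rw [← hk, orderOf_mk]⟩

/-- An involution normalising a `p`-subgroup inverts it. -/
theorem inverts [Fact p.Prime] (hC : OddC p G) {s : G} (hs : orderOf s = 2) {Q : Subgroup G}
    (hQ : IsPGroup p Q) (hn : ∀ q ∈ Q, s * q * s⁻¹ ∈ Q) : ∀ q ∈ Q, s * q * s⁻¹ = q⁻¹ := by
  have hsi := inv_of_involution hs
  have hss : s * s = 1 := by rw [← pow_two, ← hs, pow_orderOf_eq_one]
  let f : Q → Q := fun q => ⟨(q : G)⁻¹ * (s * q * s⁻¹), Q.mul_mem (Q.inv_mem q.2) (hn q q.2)⟩
  have hinj : Function.Injective f := by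
    intro a b h
    have h' : (a : G)⁻¹ * (s * a * s⁻¹) = (b : G)⁻¹ * (s * b * s⁻¹) := congrArg Subtype.val h
    by_contra hne
    have hne' : (b : G) * (a : G)⁻¹ ≠ 1 := fun e => hne (Subtype.ext (mul_inv_eq_one.mp e).symm)
    refine not_commute hC hs hne' (exists_order_pow_of_mem hQ (Q.mul_mem b.2 (Q.inv_mem a.2))) ?_
    show s * ((b : G) * (a : G)⁻¹) = (b : G) * (a : G)⁻¹ * s
    calc s * ((b : G) * (a : G)⁻¹)
        = s * b * s⁻¹ * (s * a * s⁻¹)⁻¹ * s := by group
      _ = (b : G) * (a : G)⁻¹ * s := by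
          congr 1
          rw [mul_inv_eq_iff_eq_mul, eq_comm, mul_assoc, h']
          group
  intro q hq
  obtain ⟨a, ha⟩ := (Finite.injective_iff_surjective.mp hinj) ⟨q, hq⟩
  have ha' : (a : G)⁻¹ * (s * a * s⁻¹) = q := congrArg Subtype.val ha
  rw [← ha', hsi]
  simp only [mul_inv_rev, inv_inv, hsi, mul_assoc]
  simp only [← mul_assoc s s, hss, one_mul, mul_one]

theorem commute_of_inverted {s : G} {Q : Subgroup G} (h : ∀ q ∈ Q, s * q * s⁻¹ = q⁻¹) {a b : G}
    (ha : a ∈ Q) (hb : b ∈ Q) : a * b = b * a := by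
  have e : (a * b)⁻¹ = a⁻¹ * b⁻¹ := by
    rw [← h (a * b) (Q.mul_mem ha hb), ← h a ha, ← h b hb]
    group
  have := congrArg (·⁻¹) e
  simpa using this

/-- An element inverted by an involution, with a nontrivial Sylow subgroup `Q` of its centralizer:
an involution inverts `Q`. -/
theorem exists_inverts [hp : Fact p.Prime] (hC : OddC p G) {g t : G}
    (hg : t * g * t⁻¹ = g⁻¹) (hg2 : g⁻¹ ≠ g) {C : Subgroup G}
    (hCdef : C = centralizer ({g} : Set G)) (Q : Sylow p C) :
    ∃ s : G, orderOf s = 2 ∧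
      ∀ q ∈ (Q : Subgroup C).map C.subtype, s * q * s⁻¹ = q⁻¹ := by
  have htC : ∀ c ∈ C, t * c * t⁻¹ ∈ C := by
    intro c hc
    rw [hCdef, mem_centralizer_singleton_iff] at hc ⊢
    have hgi : g = (t * g * t⁻¹)⁻¹ := by rw [hg, inv_inv]
    have hc' : c * g⁻¹ = g⁻¹ * c :=
      ((show Commute c g from hc).inv_right).eq
    rw [hgi]
    calc t * c * t⁻¹ * (t * g * t⁻¹)⁻¹ = t * (c * g⁻¹) * t⁻¹ := by group
      _ = (t * g * t⁻¹)⁻¹ * (t * c * t⁻¹) := by rw [hc']; group
  set QG := (Q : Subgroup C).map C.subtype with hQG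
  have hQGp : IsPGroup p QG := Q.2.map _
  have hQGle : QG ≤ C := map_subtype_le _
  let e : G →* G := (MulAut.conj t).toMonoidHom
  have hle : QG.map e ≤ C := by
    rintro _ ⟨q, hq, rfl⟩
    exact htC q (hQGle hq)
  have hp' : IsPGroup p ((QG.map e).subgroupOf C) :=
    (hQGp.map e).of_equiv (subgroupOfEquivOfLe hle).symm
  obtain ⟨R, hR⟩ := hp'.exists_le_sylow
  obtain ⟨c, hc⟩ := MulAction.exists_smul_eq C R Q
  have hQn : ∀ q ∈ QG, (c : G) * t * q * ((c : G) * t)⁻¹ ∈ QG := by
    intro q hq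
    have h1 : (⟨t * q * t⁻¹, htC q (hQGle hq)⟩ : C) ∈ (R : Subgroup C) :=
      hR (mem_subgroupOf.mpr ⟨q, hq, rfl⟩)
    have h2 : c * (⟨t * q * t⁻¹, htC q (hQGle hq)⟩ : C) * c⁻¹ ∈ (Q : Subgroup C) := by
      rw [← hc]
      show _ ∈ MulAut.conj c • (R : Subgroup C)
      exact Subgroup.smul_mem_pointwise_smul _ _ _ h1
    refine ⟨_, h2, ?_⟩
    simp [mul_assoc]
  set u := (c : G) * t with hu
  have hug : u * g * u⁻¹ = g⁻¹ := by
    have hcg : (c : G) * g⁻¹ = g⁻¹ * c :=
      ((show Commute (c : G) g from mem_centralizer_singleton_iff.mp (hCdef ▸ c.2)).inv_right).eq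
    calc u * g * u⁻¹ = c * (t * g * t⁻¹) * (c : G)⁻¹ := by rw [hu]; group
      _ = g⁻¹ := by rw [hg, hcg]; group
  let H : Subgroup G := normalizer (QG : Set G)
  have huH : u ∈ H := by
    show u ∈ normalizer (QG : Set G)
    refine mem_normalizer_iff.mpr fun q => ⟨hQn q, fun h => ?_⟩
    let f : QG → QG := fun q => ⟨u * q * u⁻¹, hQn q q.2⟩
    have finj : Function.Injective f := fun a b h =>
      Subtype.ext (mul_right_cancel (b := u⁻¹) (congrArg Subtype.val h) |> mul_left_cancel)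
    obtain ⟨a, ha⟩ := (Finite.injective_iff_surjective.mp finj) ⟨_, h⟩
    have ha' : u * a * u⁻¹ = u * q * u⁻¹ := congrArg Subtype.val ha
    rw [mul_left_cancel (mul_right_cancel ha') |>.symm]
    exact a.2
  obtain ⟨m, k, hk, hmk⟩ := Nat.exists_eq_two_pow_mul_odd (orderOf_pos u).ne'
  set v := u ^ k with hv
  have hvg : v * g * v⁻¹ = g⁻¹ := by
    obtain ⟨j, hj⟩ := hk
    have h2 : Commute (u ^ 2) g := by
      show u ^ 2 * g = g * u ^ 2
      rw [pow_two]
      calc u * u * g = u * (u * g * u⁻¹) * u := by group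
        _ = u * g⁻¹ * u⁻¹ * (u * u) := by rw [hug]; group
        _ = (u * g * u⁻¹)⁻¹ * (u * u) := by group
        _ = g * (u * u) := by rw [hug, inv_inv]
    have h3 : Commute ((u ^ 2) ^ j) g := h2.pow_left j
    rw [hv, hj, pow_add, pow_one, pow_mul]
    calc (u ^ 2) ^ j * u * g * ((u ^ 2) ^ j * u)⁻¹
        = (u ^ 2) ^ j * (u * g * u⁻¹) * ((u ^ 2) ^ j)⁻¹ := by group
      _ = g⁻¹ := by rw [hug, h3.inv_right.eq]; group
  have hvo : orderOf v = 2 ^ m := by
    rw [hv, orderOf_pow' u hk.pos.ne', hmk, Nat.gcd_eq_right (dvd_mul_left _ _),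
      Nat.mul_div_cancel _ hk.pos]
  have hm : m ≠ 0 := by
    rintro rfl
    rw [pow_zero, orderOf_eq_one_iff] at hvo
    rw [hvo] at hvg
    exact hg2 (by simpa using hvg.symm)
  obtain ⟨m', rfl⟩ := Nat.exists_eq_succ_of_ne_zero hm
  refine ⟨v ^ 2 ^ m', ?_, ?_⟩
  · rw [orderOf_pow' v (pow_ne_zero _ two_ne_zero), hvo,
      Nat.gcd_eq_right (pow_dvd_pow 2 (Nat.le_succ m')), pow_succ',
      Nat.mul_div_cancel _ (pow_pos two_pos _)]
  · have hs : orderOf (v ^ 2 ^ m') = 2 := by
      rw [orderOf_pow' v (pow_ne_zero _ two_ne_zero), hvo,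
        Nat.gcd_eq_right (pow_dvd_pow 2 (Nat.le_succ m')), pow_succ',
        Nat.mul_div_cancel _ (pow_pos two_pos _)]
    refine inverts hC hs hQGp fun q hq => ?_
    have hvH : v ^ 2 ^ m' ∈ H := H.pow_mem (H.pow_mem huH k) _
    exact (mem_normalizer_iff.mp hvH q).mp hq

/-- A product of two involutions, not one, has `p'`-centralizer unless some `p`-element is
inverted. -/
theorem not_dvd_centralizer_prod [hp : Fact p.Prime] (hC : OddC p G) (hinv : ¬ Inverted p G)
    {a b : G} (ha : orderOf a = 2) (hb : orderOf b = 2) (hne : a * b ≠ 1) :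
    ¬ p ∣ Nat.card (centralizer ({a * b} : Set G)) := by
  intro h
  by_cases hg2 : (a * b)⁻¹ = a * b
  · refine not_dvd_centralizer_involution hC ?_ h
    refine orderOf_eq_prime ?_ hne
    nth_rewrite 1 [pow_two, ← hg2]
    exact inv_mul_cancel _
  · have hg : a * (a * b) * a⁻¹ = (a * b)⁻¹ := by
      rw [mul_inv_rev, inv_of_involution ha, inv_of_involution hb, ← mul_assoc a a b,
        ← pow_two, ← ha, pow_orderOf_eq_one, one_mul]
    obtain ⟨Q⟩ : Nonempty (Sylow p (centralizer ({a * b} : Set G))) := inferInstance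
    obtain ⟨s, hs, hQ⟩ := exists_inverts hC hg hg2 rfl Q
    obtain ⟨⟨x, hx⟩, hxo⟩ := exists_prime_orderOf_dvd_card' (G := ↥(Q : Subgroup (centralizer ({a * b} : Set G)))) p
      (Q.dvd_card_of_dvd_card h)
    rw [orderOf_mk] at hxo
    have hxo' : orderOf (x : G) = p := by rw [orderOf_coe, hxo]
    refine hinv ⟨x, s, fun e => ?_, ⟨1, by rw [hxo', pow_one]⟩, hs, hQ _ ⟨x, hx, rfl⟩⟩
    rw [e, orderOf_one] at hxo'
    exact hp.out.one_lt.ne hxo'

/-- Without inverted `p`-elements there is a character of defect zero. -/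
theorem exists_defect_zero [hp : Fact p.Prime] (h2G : 2 ∣ Nat.card G) (hC : OddC p G)
    (hinv : ¬ Inverted p G) : ∃ χ : Cfsg.IrrCharacter G,
      (Cfsg.charDegree (χ : G → ℂ)).factorization p = (Nat.card G).factorization p := by
  classical
  by_contra hno
  push Not at hno
  haveI := Fintype.ofFinite G
  haveI := Fintype.ofFinite (Cfsg.IrrCharacter G)
  have hdvd : ∀ χ : Cfsg.IrrCharacter G,
      p * Cfsg.charDegree (χ : G → ℂ) ∣ Nat.card G := by
    intro χ
    have hd := charDegree_dvd χ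
    have hle : (Cfsg.charDegree (χ : G → ℂ)).factorization p ≤ (Nat.card G).factorization p :=
      (Nat.factorization_le_iff_dvd (charDegree_pos χ).ne' Nat.card_pos.ne').mpr hd p
    obtain ⟨e, he⟩ := hd
    have hpe : p ∣ e := by
      have h0 : e ≠ 0 := fun e0 => Nat.card_pos.ne' (by rw [he, e0, mul_zero])
      have := hno χ
      rw [he, Nat.factorization_mul (charDegree_pos χ).ne' h0, Finsupp.add_apply] at this
      exact Nat.dvd_of_factorization_pos (by omega)
    obtain ⟨e', rfl⟩ := hpe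
    exact ⟨e', by rw [he]; ring⟩
  obtain ⟨t, ht⟩ := exists_prime_orderOf_dvd_card' 2 h2G
  have key : ∀ g : G, ¬ p ∣ Nat.card (centralizer ({g} : Set G)) →
      p ∣ Nat.card {q : G × G // IsConj t q.1 ∧ IsConj g q.2 ∧ q.1 * q.2 = t} := by
    intro g hg
    set n := Nat.card {q : G × G // IsConj t q.1 ∧ IsConj g q.2 ∧ q.1 * q.2 = t}
    set ct := Nat.card (centralizer ({t} : Set G))
    set cg := Nat.card (centralizer ({g} : Set G))
    have hf := Cfsg.Agent.S0840.result t g t
    rw [finsum_eq_sum_of_fintype] at hf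
    choose e he using hdvd
    have h1 : ((n * (ct * cg) : ℕ) : ℂ) = (p : ℂ) * ∑ χ : Cfsg.IrrCharacter G,
        (e χ : ℂ) * ((χ : G → ℂ) t * (χ : G → ℂ) g * conj ((χ : G → ℂ) t)) := by
      have ht' := congrArg (Nat.cast (R := ℂ)) (card_conjugates_mul_centralizer t)
      have hg' := congrArg (Nat.cast (R := ℂ)) (card_conjugates_mul_centralizer g)
      push_cast at ht' hg' ⊢
      have hG : (Nat.card G : ℂ) ≠ 0 := natCard_ne_zero
      rw [hf]
      calc _ = ((Nat.card {x : G // IsConj t x} : ℂ) * ct) *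
            ((Nat.card {x : G // IsConj g x} : ℂ) * cg) / (Nat.card G : ℂ) *
            ∑ χ : Cfsg.IrrCharacter G,
              (χ : G → ℂ) t * (χ : G → ℂ) g * conj ((χ : G → ℂ) t) / (χ : G → ℂ) 1 := by ring
        _ = (Nat.card G : ℂ) * ∑ χ : Cfsg.IrrCharacter G,
              (χ : G → ℂ) t * (χ : G → ℂ) g * conj ((χ : G → ℂ) t) / (χ : G → ℂ) 1 := by
            rw [ht', hg', mul_div_assoc, div_self hG, mul_one]
        _ = _ := by
            rw [Finset.mul_sum, Finset.mul_sum]
            refine Finset.sum_congr rfl fun χ _ => ?_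
            have h0 := apply_one_ne_zero χ
            have := congrArg (Nat.cast (R := ℂ)) (he χ)
            push_cast at this
            rw [← charDegree_irr] at this
            rw [mul_div_assoc', div_eq_iff h0, this]
            ring
    have hint : IsIntegral ℤ (∑ χ : Cfsg.IrrCharacter G,
        (e χ : ℂ) * ((χ : G → ℂ) t * (χ : G → ℂ) g * conj ((χ : G → ℂ) t))) := by
      refine IsIntegral.sum _ fun χ _ => ?_
      have hi := fun x => isIntegral_apply (isCharacter_irr χ) x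
      refine IsIntegral.mul ?_ (((hi t).mul (hi g)).mul (Cfsg.Agent.Lib.Characters.Degree.isIntegral_conj (hi t)))
      exact map_natCast (algebraMap ℤ ℂ) (e χ) ▸ isIntegral_algebraMap
    obtain ⟨w, hw⟩ := Cfsg.Agent.Lib.Glauberman.Cyclic.exists_int_of_isIntegral hint
      hp.out.ne_zero (z := ((n * (ct * cg) : ℕ) : ℤ)) (by rw [← h1]; push_cast; rfl)
    rw [hw] at h1
    have h2 : (p : ℤ) ∣ ((n * (ct * cg) : ℕ) : ℤ) := ⟨w, by exact_mod_cast h1⟩
    rw [Int.natCast_dvd_natCast] at h2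
    rcases hp.out.dvd_mul.mp h2 with h3 | h3
    · exact h3
    · exact absurd h3 fun h3 => (hp.out.dvd_mul.mp h3).elim
        (not_dvd_centralizer_involution hC ht) hg
  let X := {a : G // IsConj t a ∧ a ≠ t}
  haveI : Fintype X := Fintype.ofFinite X
  haveI : Finite (ConjClasses G) := Finite.of_surjective _ ConjClasses.mk_surjective
  let f : X → ConjClasses G := fun a => ConjClasses.mk (a.1⁻¹ * t)
  have hX : p ∣ Fintype.card X := by
    rw [← Finset.card_univ, Finset.card_eq_sum_card_image f]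
    refine Finset.dvd_sum fun c hc => ?_
    obtain ⟨a₀, -, rfl⟩ := Finset.mem_image.mp hc
    have ha₀ : orderOf a₀.1 = 2 := by
      obtain ⟨c, hc⟩ := isConj_iff.mp a₀.2.1
      rw [← hc, orderOf_conj', ht]
    have hne : a₀.1⁻¹ * t ≠ 1 := fun e => a₀.2.2 (inv_mul_eq_one.mp e)
    have hk := key (a₀.1⁻¹ * t) (by
      rw [inv_of_involution ha₀] at hne ⊢
      exact not_dvd_centralizer_prod hC hinv ha₀ ht hne)
    rw [← Fintype.card_subtype, ← Nat.card_eq_fintype_card]
    refine (Nat.card_congr ?_) ▸ hk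
    exact
      { toFun := fun q => ⟨⟨q.1.1, q.2.1, fun e => by
            have h2 : q.1.2 = 1 := mul_eq_left.mp (q.2.2.2.trans e.symm)
            have h3 := q.2.2.1
            rw [h2, isConj_one_left] at h3
            exact hne h3⟩, by
            have h2 : q.1.2 = q.1.1⁻¹ * t := eq_inv_mul_of_mul_eq q.2.2.2
            exact ConjClasses.mk_eq_mk_iff_isConj.mpr (h2 ▸ q.2.2.1).symm⟩
        invFun := fun a => ⟨(a.1.1, a.1.1⁻¹ * t), a.1.2.1,
          (ConjClasses.mk_eq_mk_iff_isConj.mp a.2).symm, mul_inv_cancel_left _ _⟩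
        left_inv := fun q => Subtype.ext (Prod.ext rfl (eq_inv_mul_of_mul_eq q.2.2.2).symm)
        right_inv := fun a => rfl }
  have hK : p ∣ Nat.card {x : G // IsConj t x} := by
    obtain ⟨χ⟩ : Nonempty (Cfsg.IrrCharacter G) := ⟨oneChar G⟩
    have h : p ∣ Nat.card G := (dvd_mul_right p _).trans (hdvd χ)
    rw [← card_conjugates_mul_centralizer t] at h
    exact (hp.out.dvd_mul.mp h).resolve_right (not_dvd_centralizer_involution hC ht)
  have hcard : Nat.card {x : G // IsConj t x} = Fintype.card X + 1 := by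
    rw [Nat.card_eq_fintype_card, Fintype.card_subtype, Fintype.card_subtype,
      ← Finset.card_erase_add_one (a := t) (Finset.mem_filter.mpr ⟨Finset.mem_univ _,
        IsConj.refl t⟩)]
    congr 2
    ext a
    simp [and_comm]
  rw [hcard] at hK
  exact hp.out.not_dvd_one ((Nat.dvd_add_right hX).mp hK)

/-- An inverted `p`-element forces abelian Sylow subgroups inverted by involutions. -/
theorem exists_sylow_inverted [hp : Fact p.Prime] (hp2 : p ≠ 2) (hC : OddC p G)
    (hinv : Inverted p G) : ∃ (P : Sylow p G) (s : G), orderOf s = 2 ∧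
      ∀ q ∈ (P : Subgroup G), s * q * s⁻¹ = q⁻¹ := by
  obtain ⟨x, s₀, hx, ⟨k, hk⟩, hs₀, hinvx⟩ := hinv
  have hx2 : x⁻¹ ≠ x := by
    intro e
    have h2 : orderOf x ∣ 2 := orderOf_dvd_of_pow_eq_one (by
      nth_rewrite 1 [pow_two, ← e]; exact inv_mul_cancel _)
    rw [hk] at h2
    rcases Nat.eq_zero_or_pos k with rfl | hk0
    · exact hx (orderOf_eq_one_iff.mp (by rw [hk, pow_zero]))
    · exact hp2 ((Nat.prime_dvd_prime_iff_eq hp.out Nat.prime_two).mp
        ((dvd_pow_self p hk0.ne').trans h2))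
  set C := centralizer ({x} : Set G) with hCdef
  obtain ⟨Q⟩ : Nonempty (Sylow p C) := inferInstance
  obtain ⟨s, hs, hQ⟩ := exists_inverts hC hinvx hx2 hCdef Q
  set QG := (Q : Subgroup C).map C.subtype with hQG
  have hmax : ∀ R : Subgroup G, IsPGroup p R → R ≤ C → QG ≤ R → R = QG := by
    intro R hR hRC hle
    have : R.subgroupOf C = (Q : Subgroup C) := Q.3 (hR.of_equiv (subgroupOfEquivOfLe hRC).symm)
      (fun q hq => hle ⟨q, hq, rfl⟩)
    rw [hQG, ← this, subgroupOf_map_subtype, inf_eq_left.mpr hRC]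
  have hxC : x ∈ C := mem_centralizer_singleton_iff.mpr rfl
  have hxQ : x ∈ QG := by
    have hxc : (⟨x, hxC⟩ : C) ∈ center C := mem_center_iff.mpr fun c =>
      Subtype.ext (mem_centralizer_singleton_iff.mp c.2)
    haveI : (zpowers (⟨x, hxC⟩ : C)).Normal := by
      refine ⟨fun n hn c => ?_⟩
      have := mem_center_iff.mp ((zpowers_le.mpr hxc) hn) c
      rwa [this, mul_inv_cancel_right]
    have hp' : IsPGroup p (zpowers (⟨x, hxC⟩ : C)) := IsPGroup.of_card
      (n := k) (by rw [Nat.card_zpowers, orderOf_mk, hk])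
    exact ⟨_, hp'.le_sylow_of_normal Q (mem_zpowers _), rfl⟩
  have hQp : IsPGroup p QG := Q.2.map _
  obtain ⟨P, hP⟩ := hQp.exists_le_sylow
  suffices h : QG = (P : Subgroup G) from ⟨P, s, hs, fun q hq => hQ q (h ▸ hq)⟩
  by_contra hne
  have hPn := P.2.isNilpotent
  set Q' := QG.subgroupOf (P : Subgroup G) with hQ'
  have hlt : Q' < ⊤ := lt_top_iff_ne_top.mpr fun e =>
    hne (le_antisymm hP (subgroupOf_eq_top.mp e))
  have hnc := normalizerCondition_of_isNilpotent (G := (P : Subgroup G)) Q' hlt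
  obtain ⟨⟨r, hrP⟩, hrN, hrQ⟩ := SetLike.exists_of_lt hnc
  have hrQ' : r ∉ QG := fun h => hrQ (mem_subgroupOf.mpr h)
  have hrn : ∀ q ∈ QG, r * q * r⁻¹ ∈ QG := fun q hq => by
    have := (mem_normalizer_iff.mp hrN ⟨q, hP hq⟩).mp (mem_subgroupOf.mpr hq)
    exact mem_subgroupOf.mp this
  have hrn' : ∀ q ∈ QG, r⁻¹ * q * r ∈ QG := fun q hq => by
    have := (mem_normalizer_iff.mp (inv_mem hrN) ⟨q, hP hq⟩).mp (mem_subgroupOf.mpr hq)
    simpa using mem_subgroupOf.mp this
  set s' := r * s * r⁻¹ with hs'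
  have hs'o : orderOf s' = 2 := by rw [hs', orderOf_conj', hs]
  set c₀ := s * s' with hc₀
  have hc₀C : ∀ q ∈ QG, c₀ * q = q * c₀ := by
    intro q hq
    have h1 : s' * q * s'⁻¹ = q⁻¹ := by
      calc s' * q * s'⁻¹ = r * (s * (r⁻¹ * q * r) * s⁻¹) * r⁻¹ := by rw [hs']; group
        _ = q⁻¹ := by rw [hQ _ (hrn' q hq)]; group
    have h2 : c₀ * q * c₀⁻¹ = q := by
      calc c₀ * q * c₀⁻¹ = s * (s' * q * s'⁻¹) * s⁻¹ := by rw [hc₀]; group
        _ = q := by rw [h1, hQ _ (QG.inv_mem hq), inv_inv]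
    exact mul_inv_eq_iff_eq_mul.mp h2
  have hodd : Odd (orderOf c₀) := by
    have hmem : c₀ ∈ C := mem_centralizer_singleton_iff.mpr (hc₀C x hxQ)
    refine Odd.of_dvd_nat (hC x hx ⟨k, hk⟩) ?_
    rw [← orderOf_mk c₀ hmem]
    exact orderOf_dvd_natCard _
  obtain ⟨j, hj⟩ := hodd
  set c := c₀ ^ j with hc
  have hsc : s * c₀ * s⁻¹ = c₀⁻¹ := by
    have hss : s * s = 1 := by rw [← pow_two, ← hs, pow_orderOf_eq_one]
    rw [hc₀, mul_inv_rev, inv_of_involution hs'o, inv_of_involution hs, ← mul_assoc s s, hss,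
      one_mul]
  have hcs : c * s * c⁻¹ = s' := by
    have h1 : s * c⁻¹ = c * s := by
      have h : SemiconjBy s c₀ c₀⁻¹ := mul_inv_eq_iff_eq_mul.mp hsc
      have h' := (h.pow_right j).inv_right.eq
      rwa [inv_pow, inv_inv] at h'
    have h3 : c₀ ^ (2 * j) = c₀⁻¹ :=
      eq_inv_of_mul_eq_one_left (by rw [← pow_succ, ← hj, pow_orderOf_eq_one])
    rw [mul_assoc, h1, ← mul_assoc, hc, ← pow_add, ← two_mul, h3, hc₀, mul_inv_rev,
      inv_of_involution hs'o, inv_of_involution hs, mul_assoc, ← pow_two, ← hs,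
      pow_orderOf_eq_one, mul_one]
  set w := c⁻¹ * r with hw
  have hws : w ∈ centralizer ({s} : Set G) := by
    rw [mem_centralizer_singleton_iff, hw]
    calc c⁻¹ * r * s = c⁻¹ * (r * s * r⁻¹) * r := by group
      _ = s * (c⁻¹ * r) := by rw [← hs', ← hcs]; group
  have hcQ : ∀ q ∈ QG, c⁻¹ * q * c = q := fun q hq => by
    rw [mul_assoc, ← ((show Commute c₀ q from hc₀C q hq).pow_left j).eq, ← hc,
      inv_mul_cancel_left]
  have hact : ∀ (n : ℕ) (q : G), q ∈ QG →
      w ^ n * q * (w ^ n)⁻¹ = r ^ n * q * (r ^ n)⁻¹ ∧ r ^ n * q * (r ^ n)⁻¹ ∈ QG := by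
    intro n
    induction n with
    | zero => intro q hq; simp [hq]
    | succ n ih =>
      intro q hq
      have h1 : w * q * w⁻¹ = r * q * r⁻¹ := by
        calc w * q * w⁻¹ = c⁻¹ * (r * q * r⁻¹) * c := by rw [hw]; group
          _ = _ := hcQ _ (hrn q hq)
      obtain ⟨h2, h3⟩ := ih _ (hrn q hq)
      have e : r ^ (n + 1) * q * (r ^ (n + 1))⁻¹ = r ^ n * (r * q * r⁻¹) * (r ^ n)⁻¹ := by
        rw [pow_succ]; group
      refine ⟨?_, e ▸ h3⟩
      rw [e, ← h2, ← h1, pow_succ]
      group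
  have hN : ¬ p ∣ orderOf w := fun h => not_dvd_centralizer_involution hC hs
    (h.trans (by rw [← orderOf_mk w hws]; exact orderOf_dvd_natCard _))
  have hrN' : r ^ orderOf w ∈ centralizer ({x} : Set G) := by
    rw [mem_centralizer_singleton_iff]
    have := (hact (orderOf w) x hxQ).1
    rw [pow_orderOf_eq_one] at this
    simpa using (mul_inv_eq_iff_eq_mul.mp this.symm)
  obtain ⟨l, hl⟩ := exists_order_pow_of_mem P.2 hrP
  have hrC : r ∈ C := by
    obtain ⟨i, hi⟩ := exists_pow_eq_self_of_coprime (x := r) (n := orderOf w) <| by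
      rw [hl]; exact ((hp.out.coprime_iff_not_dvd.mpr hN).pow_left l).symm
    rw [← hi]
    exact C.pow_mem hrN' i
  have h := hmax ((P : Subgroup G) ⊓ C) (P.2.to_le inf_le_left) inf_le_right
    (le_inf hP (map_subtype_le _))
  exact hrQ' (h ▸ ⟨hrP, hrC⟩)

/-- An inverted `p`-element forces a character of even degree. -/
theorem exists_even_degree [hp : Fact p.Prime] (hC : OddC p G) (hinv : Inverted p G) :
    ∃ χ : Cfsg.IrrCharacter G, Even (Cfsg.charDegree (χ : G → ℂ)) := by
  classical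
  by_contra hno
  push Not at hno
  obtain ⟨x, s, hx, hk, -, hinvx⟩ := hinv
  haveI := Fintype.ofFinite G
  haveI := Fintype.ofFinite (Cfsg.IrrCharacter G)
  have hreal : ∀ χ : Cfsg.IrrCharacter G, conj ((χ : G → ℂ) x) = (χ : G → ℂ) x := fun χ => by
    rw [← apply_inv (isCharacter_irr χ)]
    exact (classFunction_apply_of_isConj (isClassFunction_irr χ)
      (isConj_iff.mpr ⟨s, hinvx⟩)).symm
  set ν : Cfsg.IrrCharacter G → ℂ := fun χ =>
    (Nat.card G : ℂ)⁻¹ * ∑ g : G, (χ : G → ℂ) (g * g) with hν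
  have hsum : ∑ χ : Cfsg.IrrCharacter G, ν χ * (χ : G → ℂ) x = 1 := by
    set c := Nat.card (centralizer ({x} : Set G))
    have hbij : Nat.card {a : G // IsConj (a * a) x} = Nat.card {y : G // IsConj x y} := by
      refine Nat.card_eq_of_bijective (fun a => ⟨a.1 * a.1, a.2.symm⟩) ⟨fun a b h => ?_, ?_⟩
      · have h' : a.1 * a.1 = b.1 * b.1 := congrArg Subtype.val h
        have hy : Odd (Nat.card (centralizer ({a.1 * a.1} : Set G))) := by
          obtain ⟨d, hd⟩ := isConj_iff.mp a.2.symm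
          refine hC _ (fun e => hx ?_) ?_
          · rw [e] at hd
            exact conj_eq_one_iff.mp hd
          · obtain ⟨k, hk⟩ := hk
            exact ⟨k, by rw [← hd, orderOf_conj', hk]⟩
        have ha : a.1 ∈ centralizer ({a.1 * a.1} : Set G) :=
          mem_centralizer_singleton_iff.mpr (mul_assoc _ _ _).symm
        have hb : b.1 ∈ centralizer ({a.1 * a.1} : Set G) :=
          mem_centralizer_singleton_iff.mpr (by rw [h', mul_assoc])
        have hinj : Function.Injective fun z : centralizer ({a.1 * a.1} : Set G) => z ^ 2 :=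
          (powCoprime (Nat.coprime_two_right.mpr hy)).injective
        exact Subtype.ext (Subtype.mk.inj
          (@hinj ⟨a.1, ha⟩ ⟨b.1, hb⟩ (Subtype.ext (by simpa [pow_two] using h'))))
      · rintro ⟨y, hy⟩
        obtain ⟨d, hd⟩ := isConj_iff.mp hy
        have hodd : Odd (orderOf y) := by
          rw [← hd, orderOf_conj']
          refine Odd.of_dvd_nat (hC x hx hk) ?_
          rw [← orderOf_mk x (mem_centralizer_singleton_iff.mpr rfl)]
          exact orderOf_dvd_natCard _
        obtain ⟨j, hj⟩ := hodd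
        have e : y ^ (j + 1) * y ^ (j + 1) = y := by
          rw [← pow_add, show j + 1 + (j + 1) = orderOf y + 1 by omega, pow_succ,
            pow_orderOf_eq_one, one_mul]
        exact ⟨⟨y ^ (j + 1), by rw [e]; exact hy.symm⟩, Subtype.ext e⟩
    calc ∑ χ : Cfsg.IrrCharacter G, ν χ * (χ : G → ℂ) x
        = (Nat.card G : ℂ)⁻¹ * ∑ g : G, ∑ χ : Cfsg.IrrCharacter G,
            (χ : G → ℂ) (g * g) * conj ((χ : G → ℂ) x) := by
          rw [Finset.sum_comm, Finset.mul_sum]
          refine Finset.sum_congr rfl fun χ _ => ?_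
          rw [hν, ← Finset.sum_mul, hreal]
          ring
      _ = (Nat.card G : ℂ)⁻¹ * ((Nat.card {a : G // IsConj (a * a) x} : ℂ) * c) := by
          congr 1
          have hval : ∀ g : G, ∑ χ : Cfsg.IrrCharacter G,
              (χ : G → ℂ) (g * g) * conj ((χ : G → ℂ) x) =
                if IsConj (g * g) x then (c : ℂ) else 0 := by
            intro g
            rw [sum_irr_mul_conj (g * g) x]
            by_cases h : IsConj (g * g) x
            · rw [if_pos h, if_pos h]
              have h1 := card_conjugates_mul_centralizer (g * g)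
              have h2 := card_conjugates_mul_centralizer x
              have h3 : Nat.card {z : G // IsConj (g * g) z} = Nat.card {z : G // IsConj x z} :=
                Nat.card_congr (_root_.Equiv.subtypeEquivRight fun z =>
                  ⟨h.symm.trans, h.trans⟩)
              rw [h3, ← h2] at h1
              haveI : Nonempty {z : G // IsConj x z} := ⟨⟨x, IsConj.refl x⟩⟩
              rw [Nat.eq_of_mul_eq_mul_left Nat.card_pos h1]
            · rw [if_neg h, if_neg h]
          simp only [hval, Finset.sum_ite, Finset.sum_const_zero, add_zero, Finset.sum_const,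
            nsmul_eq_mul]
          congr 2
          rw [Nat.card_eq_fintype_card, Fintype.card_subtype]
      _ = 1 := by
          rw [hbij, ← Nat.cast_mul, card_conjugates_mul_centralizer x,
            inv_mul_cancel₀ natCard_ne_zero]
  have horth : ∑ χ : Cfsg.IrrCharacter G, (χ : G → ℂ) 1 * (χ : G → ℂ) x = 0 := by
    rw [sum_degree_mul_apply, if_neg hx]
  let R : Cfsg.IrrCharacter G → Prop := fun χ => ∀ g, ((χ : G → ℂ) g).im = 0
  let o : Cfsg.IrrCharacter G → ℕ := fun χ => Fintype.equivFin (Cfsg.IrrCharacter G) χ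
  have ho : Function.Injective o := Fin.val_injective.comp (Equiv.injective _)
  let cj : Cfsg.IrrCharacter G → Cfsg.IrrCharacter G := Linear.conjChar
  have hcj : ∀ χ, R (cj χ) ↔ R χ := fun χ => by
    simp only [R, cj, Linear.conjChar_apply, Complex.conj_im, neg_eq_zero]
  let N := Finset.univ.filter fun χ => ¬ R χ
  let L := N.filter fun χ => o χ < o (cj χ)
  have hN : ∑ χ ∈ N, (χ : G → ℂ) 1 * (χ : G → ℂ) x =
      2 * ∑ χ ∈ L, (χ : G → ℂ) 1 * (χ : G → ℂ) x := by
    rw [two_mul, ← Finset.sum_filter_add_sum_filter_not N (fun χ => o χ < o (cj χ))]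
    congr 1
    refine Finset.sum_nbij' cj cj ?_ ?_ (fun χ _ => Linear.conjChar_conjChar χ)
      (fun χ _ => Linear.conjChar_conjChar χ) fun χ _ => ?_
    · intro χ hχ
      simp only [Finset.mem_coe, Finset.mem_filter, N, L, Finset.mem_univ, true_and] at hχ ⊢
      refine ⟨fun h => hχ.1 ((hcj χ).mp h), ?_⟩
      rw [show cj (cj χ) = χ from Linear.conjChar_conjChar χ]
      refine lt_of_le_of_ne (not_lt.mp hχ.2) fun e => hχ.1 ?_
      exact (Indicator.conjChar_eq_self_iff χ).mp (ho e)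
    · intro χ hχ
      simp only [Finset.mem_coe, Finset.mem_filter, N, L, Finset.mem_univ, true_and] at hχ ⊢
      refine ⟨fun h => hχ.1 ((hcj χ).mp h), ?_⟩
      rw [show cj (cj χ) = χ from Linear.conjChar_conjChar χ]
      exact hχ.2.not_gt
    · simp only [cj, Linear.conjChar_apply, hreal, conj_apply_one (isCharacter_irr χ)]
  have hν0 : ∀ χ ∈ N, ν χ = 0 := fun χ hχ =>
    (Indicator.indicator_spec χ).2 (Finset.mem_filter.mp hχ).2
  have hν1 : ∀ χ, ∃ k : ℤ, R χ → ν χ - (χ : G → ℂ) 1 = 2 * (k : ℂ) := by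
    intro χ
    by_cases hR : R χ
    · obtain ⟨i, hi⟩ := Nat.not_even_iff_odd.mp (hno χ)
      rcases (Indicator.indicator_spec χ).1 hR with h | h
      · exact ⟨-i, fun _ => by rw [charDegree_irr, hi, hν]; simp only [h]; push_cast; ring⟩
      · exact ⟨-i - 1, fun _ => by rw [charDegree_irr, hi, hν]; simp only [h]; push_cast; ring⟩
    · exact ⟨0, fun h => absurd h hR⟩
  choose k hk' using hν1
  have hfin : (1 : ℂ) = 2 * (∑ χ ∈ Finset.univ.filter R, (k χ : ℂ) * (χ : G → ℂ) x -
      ∑ χ ∈ L, (χ : G → ℂ) 1 * (χ : G → ℂ) x) := by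
    calc (1 : ℂ) = ∑ χ : Cfsg.IrrCharacter G, (ν χ * (χ : G → ℂ) x -
          (χ : G → ℂ) 1 * (χ : G → ℂ) x) := by rw [Finset.sum_sub_distrib, hsum, horth, sub_zero]
      _ = _ := by
          rw [← Finset.sum_filter_add_sum_filter_not Finset.univ R, mul_sub, ← hN, sub_eq_add_neg]
          congr 1
          · rw [Finset.mul_sum]
            refine Finset.sum_congr rfl fun χ hχ => ?_
            rw [← sub_mul, hk' χ (Finset.mem_filter.mp hχ).2, mul_assoc]
          · rw [← Finset.sum_neg_distrib]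
            exact Finset.sum_congr rfl fun χ hχ => by rw [hν0 χ hχ, zero_mul, zero_sub]
  have hint : IsIntegral ℤ (∑ χ ∈ Finset.univ.filter R, (k χ : ℂ) * (χ : G → ℂ) x -
      ∑ χ ∈ L, (χ : G → ℂ) 1 * (χ : G → ℂ) x) :=
    (IsIntegral.sum _ fun χ _ => (isIntegral_algebraMap (R := ℤ) (x := k χ)).mul
      (isIntegral_apply (isCharacter_irr χ) x)).sub
    (IsIntegral.sum _ fun χ _ => (isIntegral_apply (isCharacter_irr χ) 1).mul
      (isIntegral_apply (isCharacter_irr χ) x))
  obtain ⟨w, hw⟩ := Cfsg.Agent.Lib.Glauberman.Cyclic.exists_int_of_isIntegral hint two_ne_zero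
    (z := 1) (by push_cast; exact hfin.symm)
  rw [hw] at hfin
  have : (1 : ℤ) = 2 * w := by exact_mod_cast hfin
  omega

end Cfsg.Agent.Lib.OddCentP.Basic
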